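import Groth.Prelude.Def_CAlg
import Groth.Agent.GorenBasic.Basic
import Groth.Agent.GorenBasic.ChangeRings
import Mathlib.RingTheory.RegularLocalRing.Polynomial

/-! Commutative algebra used for the Gorenstein property of semigroup rings: transport along ring isomorphisms,
localisation of a quotient, regularity at primes where a denominator is invertible, self-injectivity. -/

set_option autoImplicit false

universe u

open CategoryTheory Limits

namespace Groth.Agent.GorenSG

theorem hasInjectiveDimensionLT_map {R S : Type u} [CommRing R] [CommRing S] (e : R ≃+* S) :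
    ∀ (n : ℕ) (M : ModuleCat.{u} S) [HasInjectiveDimensionLT M n],
      HasInjectiveDimensionLT ((ModuleCat.restrictScalarsEquivalenceOfRingEquiv e).functor.obj M) n := by
  set F := (ModuleCat.restrictScalarsEquivalenceOfRingEquiv e).functor with hF
  intro n
  induction n with
  | zero =>
    intro M _
    exact (F.map_isZero (isZero_of_hasInjectiveDimensionLT_zero M)).hasInjectiveDimensionLT_zero
  | succ n ih =>
    intro M hM
    rcases Nat.eq_zero_or_pos n with rfl | hn
    · have h1 : Injective M := injective_iff_hasInjectiveDimensionLT_one.mpr hM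
      exact injective_iff_hasInjectiveDimensionLT_one.mp
        ((Equivalence.map_injective_iff (ModuleCat.restrictScalarsEquivalenceOfRingEquiv e) M).2 h1)
    have hI : Injective (Injective.under M) := inferInstanceAs (Injective (Injective.under M))
    let T := ShortComplex.mk (Injective.ι M) (cokernel.π _) (cokernel.condition _)
    have hT : T.ShortExact := { exact := ShortComplex.exact_cokernel _ }
    obtain ⟨m, rfl⟩ : ∃ m, n = m + 1 := ⟨n - 1, by omega⟩
    have hC : HasInjectiveDimensionLT T.X₃ (m + 1) :=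
      hT.hasInjectiveDimensionLT_X₃ (m + 1) (hasInjectiveDimensionLT_of_ge T.X₂ 1 _ (by omega)) hM
    have hC' := ih T.X₃
    have hT' : (T.map F).ShortExact := hT.map_of_exact F
    have hI' : Injective (T.map F).X₂ :=
      (Equivalence.map_injective_iff (ModuleCat.restrictScalarsEquivalenceOfRingEquiv e) _).2 hI
    exact hT'.hasInjectiveDimensionLT_X₁ (m + 1) hC' (hasInjectiveDimensionLT_of_ge (T.map F).X₂ 1 _ (by omega))

theorem gorenstein_of_ringEquiv {R S : Type u} [CommRing R] [CommRing S] (e : R ≃+* S)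
    (h : LocCoh.IsGorensteinLocalRing S) : LocCoh.IsGorensteinLocalRing R := by
  obtain ⟨n, hn⟩ := h.exists_hasInjectiveDimensionLT
  have := isNoetherianRing_of_ringEquiv S e.symm
  have : IsLocalRing R := e.symm.isLocalRing
  have : HasInjectiveDimensionLT ((ModuleCat.restrictScalars e.toRingHom).obj (ModuleCat.of S S)) n :=
    hasInjectiveDimensionLT_map e n (ModuleCat.of S S)
  exact { exists_hasInjectiveDimensionLT :=
    ⟨n, hasInjectiveDimensionLT_of_iso (ModuleCat.restrictScalarsIsoOfEquiv e) n⟩ }

/-- A local ring `L` which is `(R ⧸ (t))` localised at the prime: Gorenstein iff `R_p` is. -/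
theorem gorenstein_atPrime_iff {R L : Type u} [CommRing R] [IsDomain R] [IsNoetherianRing R] [CommRing L]
    (g : R →+* L) (p : Ideal R) [p.IsPrime] {t : R} (ht : t ∈ p) (ht0 : t ≠ 0)
    (hu : ∀ s, s ∉ p → IsUnit (g s)) (hg : g t = 0) (hker : ∀ r, g r = 0 → r ∈ Ideal.span {t})
    (hsurj : ∀ z : L, ∃ r s, s ∉ p ∧ z * g s = g r) :
    LocCoh.IsGorensteinLocalRing (Localization.AtPrime p) ↔ LocCoh.IsGorensteinLocalRing L := by
  let A := Localization.AtPrime p
  let ψ : A →+* L := IsLocalization.lift (M := p.primeCompl) (fun s => hu s.1 s.2)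
  have hψ : ∀ r, ψ (algebraMap R A r) = g r := fun r => IsLocalization.lift_eq _ _
  have hsur : Function.Surjective ψ := fun z => by
    obtain ⟨r, s, hs, h⟩ := hsurj z
    refine ⟨IsLocalization.mk' A r (⟨s, hs⟩ : p.primeCompl), ?_⟩
    rw [IsLocalization.lift_mk'_spec, mul_comm (g s) z, h]
  have hk : RingHom.ker ψ = Ideal.span {algebraMap R A t} := by
    refine le_antisymm (fun x hx => ?_) ((Ideal.span_singleton_le_iff_mem _).2 (by rw [RingHom.mem_ker, hψ, hg]))
    obtain ⟨r, s, rfl⟩ := IsLocalization.exists_mk'_eq p.primeCompl x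
    rw [RingHom.mem_ker, IsLocalization.lift_mk'_spec, mul_zero] at hx
    obtain ⟨c, rfl⟩ := Ideal.mem_span_singleton.1 (hker r hx)
    rw [IsLocalization.mk'_eq_mul_mk'_one, map_mul, mul_assoc]
    exact Ideal.mem_span_singleton.2 (dvd_mul_right _ _)
  have : IsNoetherianRing A := IsLocalization.isNoetherianRing p.primeCompl A inferInstance
  have hm : algebraMap R A t ∈ IsLocalRing.maximalIdeal A :=
    (IsLocalization.AtPrime.to_map_mem_maximal_iff A p t).2 ht
  have hreg : IsSMulRegular A (algebraMap R A t) := by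
    have : IsDomain A := IsLocalization.isDomain_of_le_nonZeroDivisors (S := A) p.primeCompl_le_nonZeroDivisors
    have h0 : algebraMap R A t ≠ 0 := fun h =>
      ht0 ((IsLocalization.injective A p.primeCompl_le_nonZeroDivisors) (h.trans (map_zero _).symm))
    exact fun x y hxy => mul_left_cancel₀ h0 hxy
  rw [GorenBasic.isGorensteinLocalRing_quotient_iff (f := algebraMap R A t) hreg hm]
  let e : A ⧸ Ideal.span {algebraMap R A t} ≃+* L :=
    (Ideal.quotEquivOfEq hk.symm).trans (RingHom.quotientKerEquivOfSurjective hsur)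
  exact ⟨gorenstein_of_ringEquiv e.symm, gorenstein_of_ringEquiv e⟩

/-- Where the denominator `b` is invertible, `B` is as regular as `C`. -/
theorem regular_atPrime_of_eventually {B C : Type*} [CommRing B] [CommRing C] [IsDomain C] [IsRegularRing C]
    (φ : B →+* C) (hinj : Function.Injective φ) (p : Ideal B) [p.IsPrime] {b : B} (hb : b ∉ p)
    (h : ∀ c : C, ∃ (N : ℕ) (r : B), φ r = φ b ^ N * c) :
    IsRegularLocalRing (Localization.AtPrime p) := by
  classical
  have hb0 : φ b ≠ 0 := fun h0 => hb (by rw [hinj (h0.trans (map_zero φ).symm)]; exact p.zero_mem)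
  have hwd : ∀ (c : C) (N M : ℕ) (r r' : B), φ r = φ b ^ N * c → φ r' = φ b ^ M * c → r ∈ p → r' ∈ p := by
    intro c N M r r' hr hr' hrp
    have h1 : b ^ M * r = b ^ N * r' := hinj (by rw [map_mul, map_mul, map_pow, map_pow, hr, hr']; ring)
    have h2 : b ^ N * r' ∈ p := h1 ▸ p.mul_mem_left _ hrp
    exact (Ideal.IsPrime.mem_or_mem inferInstance h2).resolve_left fun h' => hb (Ideal.IsPrime.mem_of_pow_mem inferInstance _ h')
  let q : Ideal C :=
    { carrier := {c | ∃ N r, φ r = φ b ^ N * c ∧ r ∈ p}
      zero_mem' := ⟨0, 0, by rw [map_zero, mul_zero], p.zero_mem⟩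
      add_mem' := by
        rintro x y ⟨N, r, hr, hrp⟩ ⟨M, r', hr', hrp'⟩
        exact ⟨N + M, b ^ M * r + b ^ N * r', by rw [map_add, map_mul, map_mul, map_pow, map_pow, hr, hr', pow_add]; ring,
          add_mem (p.mul_mem_left _ hrp) (p.mul_mem_left _ hrp')⟩
      smul_mem' := by
        rintro d x ⟨N, r, hr, hrp⟩
        obtain ⟨M, s, hs⟩ := h d
        exact ⟨N + M, s * r, by rw [map_mul, hr, hs, smul_eq_mul, pow_add]; ring, p.mul_mem_left _ hrp⟩ }
  have hmem : ∀ (c : C) (N : ℕ) (r : B), φ r = φ b ^ N * c → (c ∈ q ↔ r ∈ p) := fun c N r hr =>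
    ⟨fun ⟨M, r', hr', hrp'⟩ => hwd c M N r' r hr' hr hrp', fun hrp => ⟨N, r, hr, hrp⟩⟩
  have hq : q.IsPrime := by
    constructor
    · intro htop
      have h1 : (1 : C) ∈ q := htop ▸ Submodule.mem_top
      exact (Ideal.IsPrime.ne_top inferInstance : p ≠ ⊤)
        ((Ideal.eq_top_iff_one p).2 ((hmem 1 0 1 (by rw [pow_zero, one_mul, map_one])).1 h1))
    · intro x y hxy
      obtain ⟨N, r, hr⟩ := h x
      obtain ⟨M, s, hs⟩ := h y
      have := (hmem (x * y) (N + M) (r * s) (by rw [map_mul, hr, hs, pow_add]; ring)).1 hxy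
      exact (Ideal.IsPrime.mem_or_mem inferInstance this).imp (hmem x N r hr).2 (hmem y M s hs).2
  let alg : Algebra B (Localization.AtPrime q) := ((algebraMap C (Localization.AtPrime q)).comp φ).toAlgebra
  have hloc : IsLocalization p.primeCompl (Localization.AtPrime q) :=
  { map_units := fun s => IsLocalization.map_units (M := q.primeCompl) (Localization.AtPrime q)
      ⟨φ s, fun hs => s.2 ((hmem (φ s) 0 s (by rw [pow_zero, one_mul])).1 hs)⟩
    surj := fun z => by
      obtain ⟨⟨c, d⟩, hcd⟩ := IsLocalization.surj q.primeCompl z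
      obtain ⟨N, r, hr⟩ := h c
      obtain ⟨M, s, hs⟩ := h (d : C)
      have hsp : b ^ N * s ∉ p := fun h' => by
        rcases Ideal.IsPrime.mem_or_mem inferInstance h' with h1 | h1
        · exact hb (Ideal.IsPrime.mem_of_pow_mem inferInstance _ h1)
        · exact d.2 ((hmem _ M s hs).2 h1)
      refine ⟨(b ^ M * r, ⟨b ^ N * s, hsp⟩), ?_⟩
      show z * algebraMap C _ (φ (b ^ N * s)) = algebraMap C _ (φ (b ^ M * r))
      rw [map_mul φ, map_mul φ, hr, hs, map_pow, map_pow]
      simp only [map_mul, map_pow]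
      rw [← hcd]; ring
    exists_of_eq := fun {x y} hxy => ⟨1, by
      rw [hinj (IsLocalization.injective (Localization.AtPrime q) q.primeCompl_le_nonZeroDivisors hxy)]⟩ }
  exact IsRegularLocalRing.of_ringEquiv
    (IsLocalization.algEquiv p.primeCompl (Localization.AtPrime q) (Localization.AtPrime p)).toRingEquiv

/-- A finite-dimensional algebra with a functional killing no ideal is self-injective. -/
theorem injective_self_of_functional {k A : Type u} [Field k] [CommRing A] [Algebra k A] [Module.Finite k A]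
    (φ : A →ₗ[k] k) (hφ : ∀ a : A, a ≠ 0 → ∃ b, φ (b * a) ≠ 0) : Module.Injective A A := by
  let fk : A →ₗ[k] Module.Dual k A :=
    LinearMap.mk₂ k (fun a x => φ (x * a)) (fun a b x => by rw [mul_add, map_add])
      (fun c a x => by rw [mul_smul_comm, map_smul]) (fun a x y => by rw [add_mul, map_add])
      (fun c a x => by rw [smul_mul_assoc, map_smul])
  have hinj : Function.Injective fk := (injective_iff_map_eq_zero _).2 fun a ha => by
    by_contra h0
    obtain ⟨b, hb⟩ := hφ a h0
    exact hb (LinearMap.congr_fun ha b)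
  have hsur : Function.Surjective fk :=
    (LinearMap.injective_iff_surjective_of_finrank_eq_finrank Subspace.dual_finrank_eq.symm).1 hinj
  refine Module.Baer.injective fun I g => ?_
  obtain ⟨ψ, hψ⟩ := (φ ∘ₗ g.restrictScalars k : (I.restrictScalars k) →ₗ[k] k).exists_extend
  obtain ⟨a, rfl⟩ := hsur ψ
  refine ⟨LinearMap.toSpanSingleton A A a, fun x hx => ?_⟩
  rw [LinearMap.toSpanSingleton_apply, smul_eq_mul]
  by_contra hne
  obtain ⟨b, hb⟩ := hφ _ (sub_ne_zero.2 hne)
  refine hb ?_
  have hbx : φ (b * x * a) = φ (g (b • ⟨x, hx⟩)) := LinearMap.congr_fun hψ ⟨b * x, I.mul_mem_left b hx⟩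
  rw [map_smul, smul_eq_mul] at hbx
  rw [mul_sub, map_sub, ← mul_assoc, hbx, sub_self]

/-- Gorenstein local rings of dimension zero are self-injective. -/
theorem injective_of_gorenstein {A : Type u} [CommRing A] [IsNoetherianRing A]
    (h : LocCoh.IsGorensteinLocalRing A) (hdim : ringKrullDim A = 0) : Module.Injective A A := by
  obtain ⟨d, hd, -, hext, -⟩ := GorenBasic.gorenstein_dim (h := h)
  have hd0 : d = 0 := by rw [hdim] at hd; exact_mod_cast hd.symm
  subst hd0
  have h1 := CAlgReg.subsingleton_ext_of_forall_quotient 0 (ModuleCat.of A A) fun I =>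
    GorenBasic.subsingleton_ext_of_residueField (ModuleCat.of A A) (n := 1) (fun i hi => hext i hi) (A ⧸ I) le_rfl
  have : Injective (ModuleCat.of A A) := injective_iff_subsingleton_ext_one.2 fun Y => h1 Y
  exact Module.injective_module_of_injective_object A A

theorem gorenstein_of_injective {A : Type u} [CommRing A] [IsNoetherianRing A] [IsLocalRing A]
    [h : Module.Injective A A] : LocCoh.IsGorensteinLocalRing A :=
  { exists_hasInjectiveDimensionLT := ⟨1, injective_iff_hasInjectiveDimensionLT_one.mp
      (Module.injective_object_of_injective_module (inj := h) A A)⟩ }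

end Groth.Agent.GorenSG
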