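import Groth.Agent.FunFldLib.GrSectGens
import Groth.Agent.GorenSG.Comm
import Mathlib.RingTheory.DedekindDomain.Basic
import Mathlib.LinearAlgebra.Dimension.Finite
import Mathlib.RingTheory.Artinian.Module

/-! The section ring of a point: finite generation, and regularity away from `T = 0` via the affine ring of
functions regular off the point. -/

set_option autoImplicit false

universe u

namespace Groth.Agent.GorenSG

open FunFld W4c6gradedringsgw Polynomial FunFldLib

variable {k K : Type u} [Field k] [Field K] [Algebra k K]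

/-- functions regular away from `P` -/
def holRing (P : Place k K) : Subalgebra k K where
  carrier := {x | ∀ Q : Place k K, Q ≠ P → Q.1 x ≤ 1}
  mul_mem' {x y} hx hy Q hQ := by rw [map_mul]; exact mul_le_one' (hx Q hQ) (hy Q hQ)
  add_mem' {x y} hx hy Q hQ := (Q.1.map_add x y).trans (max_le (hx Q hQ) (hy Q hQ))
  algebraMap_mem' c Q _ := Q.2.1 c

theorem mem_L_single {P : Place k K} {x : K} {n : ℤ} :
    x ∈ L (Finsupp.single P n : Divisor k K) ↔ P.1 x ≤ WithZero.exp n ∧ x ∈ holRing P := by
  constructor
  · exact fun h => ⟨by simpa using h P, fun Q hQ => by simpa [Finsupp.single_eq_of_ne hQ] using h Q⟩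
  · intro h Q
    rcases eq_or_ne Q P with rfl | hQ
    · simpa using h.1
    · simpa [Finsupp.single_eq_of_ne hQ] using h.2 Q hQ

theorem exists_mem_L {P : Place k K} {x : K} (hx : x ∈ holRing P) :
    ∃ n : ℕ, x ∈ L (Finsupp.single P (n : ℤ) : Divisor k K) := by
  refine ⟨(WithZero.log (P.1 x)).toNat, mem_L_single.2 ⟨?_, hx⟩⟩
  rcases eq_or_ne (P.1 x) 0 with h | h
  · rw [h]; exact zero_le
  · conv_lhs => rw [← WithZero.exp_log h]
    exact WithZero.exp_le_exp.2 (Int.self_le_toNat _)

variable [IsAlgClosed k]

theorem finiteType_sectRing (hK : IsFunctionField k K) (hg : 1 ≤ genus k K) (P : Place k K) :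
    Algebra.FiniteType k (sectRing (Finsupp.single P 1 : Divisor k K)) := by
  classical
  obtain ⟨π, hπ⟩ := exists_unif hK P
  set R := sectRing (Finsupp.single P 1 : Divisor k K) with hR
  have hXmem : (X : K[X]) ∈ R := fun n => by
    rw [coeff_X, zsmul_single_one]
    split_ifs with h
    · subst h
      rw [Nat.cast_one, coeff_one_mem hK hg P]
      exact ⟨1, map_one (algebraMap k K)⟩
    · exact zero_mem _
  let tt : R := ⟨X, hXmem⟩
  choose lf hlf hlc using fun n : ℕ => fun h : n ∈ poleOrders P => exists_lift hK P hπ h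
  let gen : Option {n : Fin (4 * genus k K + 1) // (n : ℕ) ∈ poleOrders P} → R :=
    fun o => o.elim tt fun n => ⟨_, hlf n.1 n.2⟩
  set S := Algebra.adjoin k (Set.range gen) with hS
  have hmon : ∀ m, m ∈ poleOrders P → ∃ q : R, q ∈ S ∧ (q : K[X]).natDegree ≤ m ∧
      grHom hK P hπ q = X ^ m := by
    intro m
    induction m using Nat.strong_induction_on with
    | _ m ih =>
      intro hm
      rcases lt_or_ge m (4 * genus k K + 1) with h | h
      · refine ⟨gen (some ⟨⟨m, h⟩, hm⟩), Algebra.subset_adjoin ⟨_, rfl⟩, natDegree_C_mul_X_pow_le _ _, ?_⟩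
        ext j
        change (grHom hK P hπ ⟨_, hlf m hm⟩).coeff j = _
        rw [coeff_grHom, hlc m hm, coeff_X_pow]
      · obtain ⟨q, hq, hqd, hqg⟩ := ih (2 * genus k K) (by omega) (mem_poleOrders_large hK P le_rfl)
        obtain ⟨r, hr, hrd, hrg⟩ := ih (m - 2 * genus k K) (by omega) (mem_poleOrders_large hK P (by omega))
        refine ⟨q * r, S.mul_mem hq hr, ?_, ?_⟩
        · rw [Subalgebra.coe_mul]
          exact natDegree_mul_le.trans (by omega)
        · rw [map_mul, hqg, hrg, ← pow_add, Nat.add_sub_cancel' (by omega)]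
  have hker := ker_grHom hK hg P hπ tt (a := (1 : K)) one_ne_zero (by change X = _; rw [map_one, one_mul])
  have key : ∀ (n : ℕ) (p : R), (p : K[X]).natDegree ≤ n → p ∈ S := by
    intro n
    induction n with
    | zero =>
      intro p hp
      obtain ⟨c, hc⟩ := coeff_zero_eq hK P p
      have : p = algebraMap k R c := Subtype.ext (by
        rw [Subalgebra.coe_algebraMap, Polynomial.algebraMap_apply, ← hc]
        exact eq_C_of_natDegree_le_zero hp)
      rw [this]; exact S.algebraMap_mem c
    | succ n ih =>
      intro p hp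
      have hsum : ∃ q : R, q ∈ S ∧ (q : K[X]).natDegree ≤ n + 1 ∧ grHom hK P hπ q = grHom hK P hπ p := by
        have hrange := (range_grHom hK P hπ (grHom hK P hπ p)).1 ⟨p, rfl⟩
        have hdeg : ∀ m, (grHom hK P hπ p).coeff m ≠ 0 → m ≤ n + 1 := fun m hm => by
          rw [coeff_grHom] at hm
          have h1 := lc_support hK P hπ p hm
          exact (le_natDegree_of_mem_supp _ h1).trans hp
        choose q hq hqd hqg using fun m : (grHom hK P hπ p).support =>
          hmon m.1 (hrange m.1 (mem_support_iff.1 m.2))
        refine ⟨∑ m, (grHom hK P hπ p).coeff m.1 • q m, sum_mem fun m _ => S.smul_mem (hq m) _, ?_, ?_⟩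
        · rw [AddSubmonoidClass.coe_finsetSum]
          refine natDegree_sum_le_of_forall_le _ _ fun m _ => ?_
          rw [Subalgebra.coe_smul]
          exact (natDegree_smul_le _ _).trans ((hqd m).trans (hdeg m.1 (mem_support_iff.1 m.2)))
        · simp only [map_sum, map_smul, hqg, smul_eq_C_mul]
          rw [Finset.sum_coe_sort _ fun m => C ((grHom hK P hπ p).coeff m) * X ^ m]
          exact (as_sum_support_C_mul_X_pow _).symm
      obtain ⟨q, hqS, hqd, hqg⟩ := hsum
      have hmem : p - q ∈ Ideal.span {tt} := by
        rw [← hker, RingHom.mem_ker, map_sub, hqg, sub_self]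
      obtain ⟨r, hr⟩ := Ideal.mem_span_singleton.1 hmem
      have hrd : (r : K[X]).natDegree ≤ n := by
        rcases eq_or_ne (r : K[X]) 0 with h0 | h0
        · simp [h0]
        have h1 : ((p - q : R) : K[X]).natDegree ≤ n + 1 := by
          rw [AddSubgroupClass.coe_sub]
          exact (natDegree_sub_le _ _).trans (max_le hp hqd)
        rw [hr, Subalgebra.coe_mul] at h1
        change (X * (r : K[X])).natDegree ≤ n + 1 at h1
        rw [natDegree_X_mul h0] at h1
        omega
      rw [eq_add_of_sub_eq hr]
      exact S.add_mem (S.mul_mem (Algebra.subset_adjoin ⟨none, rfl⟩) (ih r hrd)) hqS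
  refine ⟨⟨Finset.univ.image gen, ?_⟩⟩
  rw [Finset.coe_image, Finset.coe_univ, Set.image_univ, eq_top_iff]
  exact fun p _ => key _ p le_rfl

theorem isNoetherianRing_sectRing (hK : IsFunctionField k K) (hg : 1 ≤ genus k K) (P : Place k K) :
    IsNoetherianRing (sectRing (Finsupp.single P 1 : Divisor k K)) := by
  have := finiteType_sectRing hK hg P
  exact Algebra.FiniteType.isNoetherianRing k _

theorem isNoetherianRing_holRing (hK : IsFunctionField k K) (hg : 1 ≤ genus k K) (P : Place k K) :
    IsNoetherianRing (holRing P) := by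
  have := isNoetherianRing_sectRing hK hg P
  let ev : sectRing (Finsupp.single P 1 : Divisor k K) →+* holRing P :=
    ((Polynomial.evalRingHom (1 : K)).comp (sectRing _).val.toRingHom).codRestrict (holRing P) fun p => by
      change (p : K[X]).eval 1 ∈ holRing P
      rw [eval_eq_sum, Polynomial.sum]
      refine sum_mem fun n _ => ?_
      rw [one_pow, mul_one]
      have h := p.2 n
      rw [zsmul_single_one] at h
      exact (mem_L_single.1 h).2
  refine isNoetherianRing_of_surjective _ _ ev fun x => ?_
  obtain ⟨n, hn⟩ := exists_mem_L x.2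
  refine ⟨⟨C (x : K) * X ^ n, fun m => ?_⟩, Subtype.ext ?_⟩
  · rw [coeff_C_mul_X_pow, zsmul_single_one]
    split_ifs with h
    · subst h; exact hn
    · exact zero_mem _
  · change (C (x : K) * X ^ n).eval 1 = _
    simp

theorem isIntegrallyClosed_holRing (P : Place k K) : IsIntegrallyClosed (holRing P) := by
  rw [isIntegrallyClosed_iff (FractionRing (holRing P))]
  intro x hx
  let ι : FractionRing (holRing P) →ₐ[holRing P] K :=
    IsFractionRing.liftAlgHom (A := holRing P) (g := Algebra.ofId (holRing P) K) Subtype.val_injective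
  have hint : IsIntegral (holRing P) (ι x) := hx.map ι
  have hmem : ι x ∈ holRing P := by
    intro Q hQ
    obtain ⟨f, hf, hfx⟩ := hint
    refine (Valuation.Integers.mem_of_integral (v := Q.1) (Valuation.integer.integers Q.1) (x := ι x) ?_)
    let f' : holRing P →+* Q.1.integer := (holRing P).val.toRingHom.codRestrict _ fun y => y.2 Q hQ
    refine ⟨f.map f', hf.map f', ?_⟩
    rw [eval₂_map]
    exact hfx
  refine ⟨⟨ι x, hmem⟩, ?_⟩
  refine ι.toRingHom.injective ?_
  change ι (algebraMap _ _ _) = ι x
  rw [ι.commutes]
  rfl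

theorem dimensionLEOne_holRing (hK : IsFunctionField k K) (P : Place k K) : Ring.DimensionLEOne (holRing P) := by
  classical
  refine ⟨fun {Q} hQ0 hQ => ?_⟩
  obtain ⟨f, hfQ, hf0⟩ := Submodule.exists_mem_ne_zero_of_ne_bot hQ0
  obtain ⟨e, he⟩ := exists_mem_L f.2
  set g := genus k K with hg
  have : Module.Finite k (holRing P ⧸ Q) := by
    refine Module.rank_lt_aleph0_iff.1 ((rank_le (n := e) fun s hs => ?_).trans_lt (Cardinal.natCast_lt_aleph0))
    choose y hy using fun z : s => Ideal.Quotient.mk_surjective (z : holRing P ⧸ Q)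
    choose n hn using fun z : s => exists_mem_L (y z).2
    set N : ℕ := (Finset.univ.sup n) + e + 2 * g with hN
    have hfinN := finite_L hK.1 (Finsupp.single P (N : ℤ) : Divisor k K)
    let ψ : L (Finsupp.single P (N : ℤ) : Divisor k K) →ₗ[k] holRing P ⧸ Q :=
      (Ideal.Quotient.mkₐ k Q).toLinearMap ∘ₗ
        LinearMap.codRestrict (holRing P).toSubmodule (Submodule.subtype _) fun z => (mem_L_single.1 z.2).2
    have hrange : ∀ z : s, (z : holRing P ⧸ Q) ∈ LinearMap.range ψ := fun z =>
      ⟨⟨(y z : K), L_mono (single_mono P (by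
        have := Finset.le_sup (f := n) (Finset.mem_univ z)
        push_cast [hN]; omega)) (hn z)⟩, by rw [← hy z]; rfl⟩
    have hker : ell (Finsupp.single P ((N : ℤ) - e) : Divisor k K) ≤ Module.finrank k (LinearMap.ker ψ) := by
      have hmul : ∀ z : L (Finsupp.single P ((N : ℤ) - e) : Divisor k K),
          (f : K) * z ∈ L (Finsupp.single P (N : ℤ) : Divisor k K) := fun z => by
        refine mem_L_single.2 ⟨?_, mul_mem f.2 (mem_L_single.1 z.2).2⟩
        rw [map_mul]
        refine (mul_le_mul' (mem_L_single.1 he).1 (mem_L_single.1 z.2).1).trans_eq ?_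
        rw [← WithZero.exp_add, add_sub_cancel]
      let m : L (Finsupp.single P ((N : ℤ) - e) : Divisor k K) →ₗ[k] LinearMap.ker ψ :=
        LinearMap.codRestrict _ (LinearMap.codRestrict _ ((LinearMap.mulLeft k (f : K)) ∘ₗ Submodule.subtype _) hmul)
          fun z => by
            rw [LinearMap.mem_ker]
            change Ideal.Quotient.mk Q ⟨(f : K) * z, _⟩ = 0
            rw [Ideal.Quotient.eq_zero_iff_mem]
            exact Q.mul_mem_right ⟨(z : K), (mem_L_single.1 z.2).2⟩ hfQ
      refine LinearMap.finrank_le_finrank_of_injective (f := m) fun a b hab => ?_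
      have h1 : (f : K) * a = (f : K) * b := congrArg (fun z : LinearMap.ker ψ => ((z : L (Finsupp.single P (N : ℤ) : Divisor k K)) : K)) hab
      exact Subtype.ext (mul_left_cancel₀ (fun h => hf0 (Subtype.ext h)) h1)
    have hrn := LinearMap.finrank_range_add_finrank_ker ψ
    have h1 := ell_large hK (D := Finsupp.single P (N : ℤ)) (by rw [deg_single, deg_eq_one hK P]; omega)
    have h2 := ell_large hK (D := Finsupp.single P ((N : ℤ) - e)) (by rw [deg_single, deg_eq_one hK P]; omega)
    rw [deg_single, deg_eq_one hK P] at h1 h2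
    have hr : Module.finrank k (LinearMap.range ψ) ≤ e := by
      simp only [ell] at h1 h2 hker
      omega
    have hli : LinearIndependent k (fun z : s => (⟨z, hrange z⟩ : LinearMap.range ψ)) :=
      LinearIndependent.of_comp (LinearMap.range ψ).subtype hs
    have := hli.fintype_card_le_finrank
    rw [Fintype.card_coe] at this
    omega
  have : IsArtinianRing (holRing P ⧸ Q) := IsArtinianRing.of_finite k _
  exact Ideal.Quotient.maximal_of_isField _ (IsArtinianRing.isField_of_isDomain _)

theorem isRegularRing_holPoly (hK : IsFunctionField k K) (hg : 1 ≤ genus k K) (P : Place k K) :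
    IsRegularRing (Polynomial (holRing P)) := by
  have := isNoetherianRing_holRing hK hg P
  have := isIntegrallyClosed_holRing P
  have := dimensionLEOne_holRing hK P
  have : IsDedekindDomain (holRing P) := { }
  infer_instance

/-- Away from `T = 0` the section ring is regular. -/
theorem regular_atPrime_of_notMem (hK : IsFunctionField k K) (hg : 1 ≤ genus k K) (P : Place k K)
    (t : sectRing (Finsupp.single P 1 : Divisor k K)) (ht : (t : K[X]) = X)
    (p : Ideal (sectRing (Finsupp.single P 1 : Divisor k K))) [p.IsPrime] (htp : t ∉ p) :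
    IsRegularLocalRing (Localization.AtPrime p) := by
  classical
  have := isRegularRing_holPoly hK hg P
  have hc : ∀ (q : sectRing (Finsupp.single P 1 : Divisor k K)), ↑(q : K[X]).coeffs ⊆ ((holRing P).toSubring : Set K) := by
    intro q x hx
    obtain ⟨n, -, rfl⟩ := mem_coeffs_iff.1 hx
    have h := q.2 n
    rw [zsmul_single_one] at h
    exact (mem_L_single.1 h).2
  let φ : sectRing (Finsupp.single P 1 : Divisor k K) →+* (holRing P)[X] :=
    { toFun := fun q => (q : K[X]).toSubring (holRing P).toSubring (hc q)
      map_one' := Polynomial.ext fun n => Subtype.ext (by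
        simp only [coeff_toSubring', Subalgebra.coe_one, coeff_one]; split_ifs <;> rfl)
      map_zero' := Polynomial.ext fun n => Subtype.ext (by simp)
      map_add' := fun a b => Polynomial.ext fun n => Subtype.ext (by simp)
      map_mul' := fun a b => Polynomial.ext fun n => Subtype.ext (by
        simp only [coeff_toSubring', Subalgebra.coe_mul, coeff_mul, AddSubmonoidClass.coe_finsetSum,
          MulMemClass.coe_mul]) }
  have hφ : ∀ q n, ((φ q).coeff n : K) = (q : K[X]).coeff n := fun q n => coeff_toSubring' (q : K[X]) (holRing P).toSubring (hc q)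
  have hφt : φ t = X := Polynomial.ext fun n => Subtype.ext (by
    rw [hφ, ht, coeff_X, coeff_X]; split_ifs <;> rfl)
  refine regular_atPrime_of_eventually φ ?_ p htp fun c => ?_
  · exact fun a b hab => Subtype.ext (Polynomial.ext fun n => by rw [← hφ, ← hφ, hab])
  · choose e he using fun n : ℕ => exists_mem_L (c.coeff n).2
    refine ⟨c.support.sup e, ⟨X ^ (c.support.sup e) * c.map (holRing P).val.toRingHom, fun m => ?_⟩, ?_⟩
    · rw [coeff_X_pow_mul', zsmul_single_one]
      split_ifs with h
      · rw [coeff_map]
        rcases eq_or_ne (c.coeff (m - c.support.sup e)) 0 with h0 | h0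
        · rw [h0, map_zero]; exact zero_mem _
        · refine L_mono (single_mono P ?_) (he _)
          have := Finset.le_sup (f := e) (mem_support_iff.2 h0)
          omega
      · exact zero_mem _
    · refine Polynomial.ext fun n => Subtype.ext ?_
      rw [hφ, hφt, coeff_X_pow_mul', coeff_X_pow_mul']
      split_ifs with h
      · rw [coeff_map]; rfl
      · rfl

end Groth.Agent.GorenSG
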