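import Groth.Prelude.Def_W4c6gradedringsgwSect
import Groth.Agent.GorenSG.Comm
import Mathlib.RingTheory.Artinian.Module

/-! Kunz's theorem: a numerical semigroup ring is Gorenstein at the origin iff the semigroup is symmetric. -/

set_option autoImplicit false

universe u

namespace Groth.Agent.GorenSG

open Polynomial

variable {k : Type u} [Field k]
variable (B : Subalgebra k k[X]) (H : AddSubmonoid ℕ) (hB : ∀ f : k[X], f ∈ B ↔ ∀ n, f.coeff n ≠ 0 → n ∈ H)
  (c : ℕ) (hc : ∀ n, c ≤ n → n ∈ H)

include hB in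
theorem X_pow_mem {n : ℕ} (hn : n ∈ H) : (X : k[X]) ^ n ∈ B := (hB _).2 fun m hm => by
  rw [coeff_X_pow] at hm
  split_ifs at hm with h
  · exact h ▸ hn
  · exact absurd rfl hm

include hB hc in
theorem regular_atPrime_of_monomial_notMem (p : Ideal B) [p.IsPrime] {h : ℕ} (hh : h ∈ H) (h0 : 0 < h)
    (hnm : (⟨X ^ h, X_pow_mem B H hB hh⟩ : B) ∉ p) : IsRegularLocalRing (Localization.AtPrime p) := by
  refine regular_atPrime_of_eventually B.val.toRingHom Subtype.val_injective p hnm fun f => ⟨c, ⟨(X ^ h) ^ c * f, ?_⟩, rfl⟩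
  refine (hB _).2 fun n hn => hc n ?_
  rw [← pow_mul, coeff_X_pow_mul'] at hn
  split_ifs at hn with hle
  · exact (Nat.le_mul_of_pos_left c h0).trans hle
  · exact absurd rfl hn

/-- the Apéry set with respect to `a` -/
def Ap (a n : ℕ) : Prop := n ∈ H ∧ ¬ ∃ j ∈ H, j + a = n

include hc in
theorem Ap_lt {a n : ℕ} (h : Ap H a n) : n < c + a := by
  by_contra hge
  exact h.2 ⟨n - a, hc _ (by omega), by omega⟩

include hB in
theorem mem_span_iff {a : ℕ} (ha : a ∈ H) (u : B) :
    u ∈ Ideal.span {(⟨X ^ a, X_pow_mem B H hB ha⟩ : B)} ↔ ∀ n, Ap H a n → (u : k[X]).coeff n = 0 := by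
  rw [Ideal.mem_span_singleton]
  constructor
  · rintro ⟨v, rfl⟩ n hn
    change (X ^ a * (v : k[X])).coeff n = 0
    rw [coeff_X_pow_mul']
    split_ifs with h
    · by_contra hne
      exact hn.2 ⟨n - a, (hB _).1 v.2 _ hne, by omega⟩
    · rfl
  · intro h
    have hd : ∀ n, (u : k[X]).coeff n ≠ 0 → ∃ j ∈ H, j + a = n := fun n hn =>
      by_contra fun hne => hn (h n ⟨(hB _).1 u.2 n hn, hne⟩)
    obtain ⟨v, hv⟩ := (X_pow_dvd_iff (n := a)).2 fun d hd' => by_contra fun hne => by
      obtain ⟨j, -, rfl⟩ := hd d hne; omega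
    refine ⟨⟨v, (hB _).2 fun n hn => ?_⟩, Subtype.ext hv⟩
    obtain ⟨j, hj, hjn⟩ := hd (a + n) (by rw [hv, coeff_X_pow_mul', if_pos (Nat.le_add_right _ _), Nat.add_sub_cancel_left]; exact hn)
    rwa [show n = j by omega]

include hB hc in
theorem gorenstein_quotient_iff {a : ℕ} (ha : a ∈ H) (ha0 : 0 < a)
    [IsNoetherianRing (B ⧸ Ideal.span {(⟨X ^ a, X_pow_mem B H hB ha⟩ : B)})] :
    LocCoh.IsGorensteinLocalRing (B ⧸ Ideal.span {(⟨X ^ a, X_pow_mem B H hB ha⟩ : B)}) ↔
      W4c6gradedringsgw.IsSymmetric (H : Set ℕ) := by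
  classical
  set I := Ideal.span {(⟨X ^ a, X_pow_mem B H hB ha⟩ : B)} with hI
  set A := B ⧸ I
  have hmk0 : ∀ u : B, Ideal.Quotient.mk I u = 0 ↔ ∀ n, Ap H a n → (u : k[X]).coeff n = 0 := fun u => by
    rw [Ideal.Quotient.eq_zero_iff_mem, hI, mem_span_iff B H hB ha]
  have hfin : Module.Finite k A := by
    let mon : Fin (c + a) → B := fun n => if h : (n : ℕ) ∈ H then ⟨X ^ (n : ℕ), X_pow_mem B H hB h⟩ else 0
    refine Module.Finite.of_surjective ((Ideal.Quotient.mkₐ k I).toLinearMap ∘ₗ Fintype.linearCombination k mon) fun z => ?_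
    obtain ⟨u, rfl⟩ := Ideal.Quotient.mk_surjective z
    refine ⟨fun n => (u : k[X]).coeff n, ?_⟩
    change Ideal.Quotient.mk I (Fintype.linearCombination k mon fun n => (u : k[X]).coeff n) = _
    rw [← sub_eq_zero, ← map_sub, hmk0]
    intro n hn
    rw [Fintype.linearCombination_apply, AddSubgroupClass.coe_sub, AddSubmonoidClass.coe_finsetSum, coeff_sub, finset_sum_coeff,
      Finset.sum_eq_single (⟨n, Ap_lt H c hc hn⟩ : Fin (c + a))]
    · simp [mon, hn.1, coeff_X_pow]
    · intro m _ hm
      have hne : n ≠ (m : ℕ) := fun h => hm (Fin.ext h.symm)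
      simp only [mon]
      split_ifs <;> simp [coeff_X_pow, hne]
    · exact fun h => absurd (Finset.mem_univ _) h
  let coeffB : ℕ → B →ₗ[k] k := fun D => (lcoeff k D) ∘ₗ B.val.toLinearMap
  let φ : ∀ D, Ap H a D → A →ₗ[k] k := fun D hD =>
    (Submodule.liftQ (I.restrictScalars k) (coeffB D) fun u hu =>
      (mem_span_iff B H hB ha u).1 (show u ∈ Ideal.span _ from hu) D hD) ∘ₗ
      (Submodule.Quotient.restrictScalarsEquiv k I).symm.toLinearMap
  have hφ : ∀ D (hD : Ap H a D) (u : B), φ D hD (Ideal.Quotient.mk I u) = (u : k[X]).coeff D := fun D hD u => rfl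
  have hntriv : Nontrivial A := Ideal.Quotient.nontrivial_iff.2 fun h => by
    have h1 : (1 : B) ∈ I := h ▸ Submodule.mem_top
    have h2 := (mem_span_iff B H hB ha 1).1 h1 0 ⟨H.zero_mem, fun ⟨j, _, hj⟩ => by omega⟩
    simp at h2
  have hlocal : IsLocalRing A := by
    have hnil : ∀ u : B, (u : k[X]).coeff 0 = 0 → IsNilpotent (Ideal.Quotient.mk I u) := fun u hu => by
      refine ⟨c + a, ?_⟩
      rw [← map_pow, hmk0]
      intro n hn
      rw [SubmonoidClass.coe_pow]
      exact (X_pow_dvd_iff.1 (pow_dvd_pow_of_dvd (X_dvd_iff.2 hu) (c + a))) n (Ap_lt H c hc hn)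
    refine IsLocalRing.of_isUnit_or_isUnit_one_sub_self fun z => ?_
    obtain ⟨u, rfl⟩ := Ideal.Quotient.mk_surjective z
    set u0 := (u : k[X]).coeff 0
    have hv : IsNilpotent (Ideal.Quotient.mk I (u - algebraMap k B u0)) := hnil _ (by simp [u0])
    rcases eq_or_ne u0 0 with h | h
    · rw [h, map_zero, sub_zero] at hv
      exact Or.inr hv.isUnit_one_sub
    · refine Or.inl ?_
      have h1 : IsUnit (Ideal.Quotient.mk I (algebraMap k B u0)) := ((Ne.isUnit h).map (algebraMap k B)).map _
      have := hv.isUnit_add_left_of_commute h1 (mul_comm (Ideal.Quotient.mk I (u - algebraMap k B u0)) _)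
      rwa [← map_add, add_sub_cancel] at this
  constructor
  · intro hG
    have hart : IsArtinianRing A := IsArtinianRing.of_finite k A
    have hinj := injective_of_gorenstein hG (ringKrullDimZero_iff_ringKrullDim_eq_zero.1 inferInstance)
    have hex : ∃ w, Ap H a w := ⟨0, H.zero_mem, fun ⟨j, _, hj⟩ => by omega⟩
    set D := Nat.findGreatest (Ap H a) (c + a) with hDdef
    have hD : Ap H a D := Nat.findGreatest_spec (Nat.zero_le _) ⟨H.zero_mem, fun ⟨j, _, hj⟩ => by omega⟩
    have hmax : ∀ w, Ap H a w → w ≤ D := fun w hw => Nat.le_findGreatest (Ap_lt H c hc hw).le hw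
    have hsocle : ∀ w (hw : w ∈ H), (∀ h ∈ H, 0 < h → ¬ Ap H a (w + h)) → ∀ r : B,
        Ideal.Quotient.mk I (r * ⟨X ^ w, X_pow_mem B H hB hw⟩) =
          (r : k[X]).coeff 0 • Ideal.Quotient.mk I ⟨X ^ w, X_pow_mem B H hB hw⟩ := by
      intro w hw hsoc r
      change _ = Ideal.Quotient.mk I ((r : k[X]).coeff 0 • ⟨X ^ w, X_pow_mem B H hB hw⟩)
      rw [← sub_eq_zero, ← map_sub, hmk0]
      intro n hn
      change (((r : k[X]) * X ^ w) - (r : k[X]).coeff 0 • X ^ w).coeff n = 0
      rw [coeff_sub, coeff_smul, coeff_mul_X_pow', coeff_X_pow, smul_eq_mul]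
      rcases lt_trichotomy n w with h | rfl | h
      · rw [if_neg (by omega), if_neg (by omega), mul_zero, sub_zero]
      · rw [if_pos le_rfl, if_pos rfl, Nat.sub_self, mul_one, sub_self]
      · rw [if_pos h.le, if_neg (by omega), mul_zero, sub_zero]
        by_contra hne
        exact hsoc (n - w) ((hB _).1 r.2 _ hne) (by omega) (by rwa [Nat.add_sub_cancel' h.le])
    have key : ∀ w, Ap H a w → ∃ h ∈ H, w + h = D := by
      intro w
      induction hn : D - w using Nat.strong_induction_on generalizing w with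
      | _ m ih =>
        intro hw
        by_cases hex : ∃ h ∈ H, 0 < h ∧ Ap H a (w + h)
        · obtain ⟨h, hh, h0, hwh⟩ := hex
          obtain ⟨h', hh', he⟩ := ih (D - (w + h)) (by have := hmax _ hwh; omega) (w + h) rfl hwh
          exact ⟨h + h', H.add_mem hh hh', by omega⟩
        · push Not at hex
          rcases eq_or_ne w D with rfl | hne
          · exact ⟨0, H.zero_mem, rfl⟩
          exfalso
          have hDsoc : ∀ h ∈ H, 0 < h → ¬ Ap H a (D + h) := fun h _ h0 hA => by
            have := hmax _ hA; omega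
          set u := Ideal.Quotient.mk I ⟨X ^ D, X_pow_mem B H hB hD.1⟩ with hu
          set v := Ideal.Quotient.mk I ⟨X ^ w, X_pow_mem B H hB hw.1⟩ with hv
          let J : Ideal A := Ideal.span {u, v}
          have hlin : ∀ z ∈ J, ∀ r : B, φ D hD (Ideal.Quotient.mk I r * z) = (r : k[X]).coeff 0 * φ D hD z := by
            intro z hz
            induction hz using Submodule.span_induction with
            | mem y hy =>
              intro r
              rcases hy with rfl | rfl
              · rw [hu, ← map_mul, hsocle D hD.1 hDsoc r, map_smul, smul_eq_mul]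
              · rw [hv, ← map_mul, hsocle w hw.1 hex r, map_smul, smul_eq_mul]
            | zero => intro r; rw [mul_zero, map_zero, mul_zero]
            | add y y' _ _ hy hy' => intro r; rw [mul_add, map_add, hy, hy', map_add, mul_add]
            | smul s y _ hy =>
              intro r
              obtain ⟨s, rfl⟩ := Ideal.Quotient.mk_surjective s
              rw [smul_eq_mul, ← mul_assoc, ← map_mul, hy, hy, ← mul_assoc]
              congr 1
              exact mul_coeff_zero (r : k[X]) (s : k[X])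
          let f : J →ₗ[A] A :=
            { toFun := fun z => φ D hD (z : A) • u
              map_add' := fun y z => by rw [Submodule.coe_add, map_add, add_smul]
              map_smul' := fun s z => by
                obtain ⟨s, rfl⟩ := Ideal.Quotient.mk_surjective s
                rw [Submodule.coe_smul, smul_eq_mul, hlin _ z.2, RingHom.id_apply, smul_eq_mul, mul_smul_comm,
                  hu, ← map_mul, hsocle D hD.1 hDsoc, smul_smul, mul_comm] }
          obtain ⟨g, hg⟩ := Module.Injective.extension_property A A _ _ J.subtype J.injective_subtype f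
          obtain ⟨e, he⟩ := Ideal.Quotient.mk_surjective (g 1)
          have hge : ∀ z (hz : z ∈ J), Ideal.Quotient.mk I e * z = φ D hD z • u := fun z hz => by
            have := LinearMap.congr_fun hg ⟨z, hz⟩
            rw [LinearMap.comp_apply] at this
            change g z = φ D hD z • u at this
            rw [← this, he]
            exact (mul_comm (g 1) z).trans ((g.map_smul z 1).symm.trans (congrArg g (mul_one z)))
          have h1 := congrArg (φ D hD) (hge u (Ideal.subset_span (Set.mem_insert _ _)))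
          rw [hlin u (Ideal.subset_span (Set.mem_insert _ _)), map_smul, smul_eq_mul] at h1
          have hu1 : φ D hD u = 1 := by rw [hu, hφ D hD]; simp [coeff_X_pow]
          have hv0 : φ D hD v = 0 := by rw [hv, hφ D hD]; simp [coeff_X_pow, Ne.symm hne]
          have h2 := congrArg (φ w hw) (hge v (Ideal.subset_span (Set.mem_insert_of_mem _ rfl)))
          rw [hv0, zero_smul, map_zero, hv, ← map_mul, hsocle w hw.1 hex, map_smul, hφ w hw] at h2
          rw [hu1, mul_one, mul_one] at h1
          simp [h1, coeff_X_pow] at h2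
    refine ⟨(D : ℤ) - a, fun n => ⟨?_, ?_⟩⟩
    · rintro ⟨h, hh, rfl⟩ ⟨j, hj, hje⟩
      exact hD.2 ⟨h + j, H.add_mem hh hj, by omega⟩
    · intro hno
      by_contra hn
      have hex : ∃ i : ℕ, ∃ h ∈ H, (h : ℤ) = n + i * a := by
        refine ⟨(c + n.natAbs), (n + ((c + n.natAbs : ℕ) : ℤ) * a).toNat, hc _ ?_, ?_⟩
        all_goals
          have : ((c + n.natAbs : ℕ) : ℤ) * 1 ≤ ((c + n.natAbs : ℕ) : ℤ) * a :=
            mul_le_mul_of_nonneg_left (by omega) (by omega)
          omega
      obtain ⟨h, hh, he⟩ := Nat.find_spec hex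
      rcases Nat.eq_zero_or_pos (Nat.find hex) with h0 | h0
      · exact hn ⟨h, hh, by rw [he, h0]; simp⟩
      have hw : Ap H a h := ⟨hh, fun ⟨j, hj, hje⟩ => Nat.find_min hex (Nat.sub_lt h0 one_pos) ⟨j, hj, by
        rw [Nat.cast_sub (by omega), Nat.cast_one, sub_mul, one_mul]; omega⟩⟩
      obtain ⟨h', hh', hsum⟩ := key h hw
      refine hno ⟨(Nat.find hex - 1) * a + h', ?_, ?_⟩
      · refine H.add_mem ?_ hh'
        rw [← smul_eq_mul]; exact H.nsmul_mem ha _
      · rw [Nat.cast_add, Nat.cast_mul, Nat.cast_sub (by omega), Nat.cast_one, sub_mul, one_mul]; omega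
  · rintro ⟨d, hd⟩
    have h1 : ∃ h ∈ H, (h : ℤ) = d + a := by
      have := (hd (-(a : ℤ))).not
      by_contra hne
      have := (hd (-(a : ℤ))).2 fun ⟨h, hh, he⟩ => hne ⟨h, hh, by omega⟩
      obtain ⟨h, -, he⟩ := this
      omega
    obtain ⟨D, hDH, hDe⟩ := h1
    have hD : Ap H a D := ⟨hDH, fun ⟨j, hj, hje⟩ =>
      ((hd 0).1 ⟨0, H.zero_mem, rfl⟩) ⟨j, hj, by omega⟩⟩
    have hinj : Module.Injective A A := injective_self_of_functional (A := A) (φ D hD) fun z hz => by
      obtain ⟨u, rfl⟩ := Ideal.Quotient.mk_surjective (I := I) z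
      replace hz := mt (hmk0 u).2 hz
      push Not at hz
      obtain ⟨w, hw, hne⟩ := hz
      obtain ⟨h, hh, he⟩ : ∃ h ∈ H, (h : ℤ) = d - ((w : ℤ) - a) := by
        by_contra hno
        obtain ⟨j, hj, hje⟩ := (hd ((w : ℤ) - a)).2 hno
        exact hw.2 ⟨j, hj, by omega⟩
      refine ⟨Ideal.Quotient.mk I ⟨X ^ h, X_pow_mem B H hB hh⟩, ?_⟩
      rw [← map_mul, hφ D hD]
      change (X ^ h * (u : k[X])).coeff D ≠ 0
      rwa [coeff_X_pow_mul', if_pos (by omega), show D - h = w by omega]
    exact gorenstein_of_injective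

end Groth.Agent.GorenSG
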